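import Groth.Agent.AlgSpRefinedVal.Core
import Groth.Agent.AlgSpUnivClosed.Valuative
import Groth.Agent.AlgSpUnivClosed.FlatLift
import Groth.Agent.AlgSpUnivClosed.SepSquare
import Groth.Agent.AlgSpLib.UnivClosed
import Groth.Agent.AlgSpLib.ChartMor
import Groth.Agent.AlgStLib.SpDiagProps

/-!
The refined valuative criterion for morphisms of algebraic spaces.
-/

set_option autoImplicit false
set_option backward.isDefEq.respectTransparency.types false

universe u

open CategoryTheory CategoryTheory.Limits AlgebraicGeometry Opposite AlgSp Topology IsLocalRing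

namespace Groth.Agent.AlgSpRefinedVal

open Groth.Agent.AlgSpLib

variable {S : Scheme.{u}}

theorem mem_asIdeal_iff_of_field {B L : Type u} [CommRing B] [Field L] (χ : B →+* L) (x : B) :
    x ∈ (Spec.map (CommRingCat.ofHom χ) (closedPoint L : Spec (CommRingCat.of L))).asIdeal ↔ χ x = 0 := by
  show χ x ∈ maximalIdeal L ↔ _
  rw [IsLocalRing.mem_maximalIdeal, mem_nonunits_iff, isUnit_iff_ne_zero, not_not]

/-- An affine chart through a given point. -/
theorem exists_affine_chart_point {P : Sp S} (hP : IsAlgSpace P) (x : Points P) :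
    ∃ (W : Over S) (a : (yon S).obj W ⟶ P) (w : ↥W.left),
      IsAffine W.left ∧ RepWith @Etale a ∧ Points.ofPt a w = x := by
  obtain ⟨W₀, a, ha, has⟩ := hP.atlas
  obtain ⟨w₀, hw₀⟩ := surjective_ofPt has x
  obtain ⟨O, hO, hwO, -⟩ := exists_isAffineOpen_mem_and_subset (X := W₀.left) (x := w₀) (U := ⊤) trivial
  let ι : Over.mk (O.ι ≫ W₀.hom) ⟶ W₀ := Over.homMk O.ι rfl
  exact ⟨Over.mk (O.ι ≫ W₀.hom), (yon S).map ι ≫ a, (⟨w₀, hwO⟩ : O.toScheme), hO,
    repWith_yon_comp ι (inferInstanceAs (Etale O.ι)) ha, (ofPt_comp ι a (⟨w₀, hwO⟩ : O.toScheme)).trans hw₀⟩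

set_option maxHeartbeats 1000000 in
theorem hasLiftExt_of_refined {U X Y : Sp S} (hU : IsAlgSpace U) (hX : IsAlgSpace X) (hY : IsAlgSpace Y)
    {f : X ⟶ Y} {h : U ⟶ X} (hh : IsQuasiCompactMor h) (hd : DenseRange (Points.map h))
    (hv : ∀ sq : ValSq f, (∃ t : (yon S).obj sq.ptK ⟶ U, t ≫ h = sq.top) → sq.HasUniq ∧ sq.HasLiftExt)
    (sq : ValSq f) : sq.HasLiftExt := by
  -- an affine chart of the target at the closed point
  obtain ⟨V, bV, v, hV, hbV, hv₀⟩ := exists_affine_chart_point hY (Points.ofPt sq.bot (closedPoint sq.A))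
  haveI : IsAffine V.left := hV
  have hflat : LocP @Flat bV := locP_of_repWith hbV fun _ _ _ k m hk hm => by
    haveI := hk
    haveI : Etale m := hm
    infer_instance
  obtain ⟨A₁, _, _, _, φ₁, hφ₁, hφ₁loc, l₁, hl₁⟩ :=
    Groth.Agent.AlgSpUnivClosed.exists_valuation_lift_of_flat (IsAlgSpace.yon_obj _) hY hflat sq.A sq.str sq.bot
      ⟨Points.ofPt (𝟙 _) v, by rw [Points.map_ofPt, Category.id_comp, hv₀]⟩
  obtain ⟨lV, rfl⟩ := (yon S).map_surjective l₁
  let R : Type u := Γ(V.left, ⊤)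
  let r : Spec (CommRingCat.of R) ⟶ S := V.left.isoSpec.inv ≫ V.hom
  let eV : Over.mk r ⟶ V := Over.homMk V.left.isoSpec.inv rfl
  haveI : IsIso eV.left := inferInstanceAs (IsIso V.left.isoSpec.inv)
  let c := (yon S).map eV ≫ bV
  have hc : RepWith @Etale c := repWith_yon_comp eV (inferInstance : Etale eV.left) hbV
  let ρ₁ : R →+* A₁ := (Spec.preimage (lV.left ≫ V.left.isoSpec.hom :
    Spec (CommRingCat.of A₁) ⟶ Spec (CommRingCat.of R))).hom
  have hρ₁ : Spec.map (CommRingCat.ofHom ρ₁) = lV.left ≫ V.left.isoSpec.hom := Spec.map_preimage _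
  have hlV : Spec.map (CommRingCat.ofHom ρ₁) ≫ V.left.isoSpec.inv = lV.left := by
    rw [hρ₁, Category.assoc, Iso.hom_inv_id, Category.comp_id]
  have hρ₁r : Spec.map (CommRingCat.ofHom ρ₁) ≫ r = Spec.map (CommRingCat.ofHom φ₁) ≫ sq.str := by
    show _ ≫ _ ≫ V.hom = _
    rw [← Category.assoc, hlV]
    exact Over.w lV
  obtain ⟨K₁, _, _, _⟩ : ∃ (L : Type u) (_ : Field L) (_ : Algebra A₁ L), IsFractionRing A₁ L :=
    ⟨FractionRing A₁, inferInstance, inferInstance, inferInstance⟩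
  have hi : Function.Injective ((algebraMap A₁ K₁).comp φ₁) := (IsFractionRing.injective A₁ K₁).comp hφ₁
  let ψ₁ : sq.K →+* K₁ := IsFractionRing.lift hi
  have hψ₁ : ψ₁.comp (algebraMap sq.A sq.K) = (algebraMap A₁ K₁).comp φ₁ := by
    ext x
    rw [RingHom.comp_apply]
    exact IsFractionRing.lift_algebraMap hi x
  let ψ₁o : Over.mk (Spec.map (CommRingCat.ofHom ((algebraMap A₁ K₁).comp ρ₁)) ≫ r) ⟶ sq.ptK :=
    smap ψ₁ (by rw [spec_w, hψ₁, ← spec_w, ← hρ₁r, spec_w])
  let jr : Over.mk (Spec.map (CommRingCat.ofHom ((algebraMap A₁ K₁).comp ρ₁)) ≫ r) ⟶ Over.mk r :=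
    smap ((algebraMap A₁ K₁).comp ρ₁) rfl
  have hP := isAlgSpace_pullback f c hX (IsAlgSpace.yon_obj _) hY
  let p : (yon S).obj (Over.mk (Spec.map (CommRingCat.ofHom ((algebraMap A₁ K₁).comp ρ₁)) ≫ r)) ⟶ pullback f c :=
    pullback.lift ((yon S).map ψ₁o ≫ sq.top) ((yon S).map jr) (by
      rw [Category.assoc, sq.comm, ← Category.assoc ((yon S).map ψ₁o), ← Functor.map_comp]
      show _ = (yon S).map jr ≫ (yon S).map eV ≫ bV
      rw [← Category.assoc ((yon S).map jr), ← Functor.map_comp]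
      let φ₁o : Over.mk (Spec.map (CommRingCat.ofHom φ₁) ≫ sq.str) ⟶ Over.mk sq.str :=
        Over.homMk (Spec.map (CommRingCat.ofHom φ₁)) rfl
      let j₁ : Over.mk (Spec.map (CommRingCat.ofHom ((algebraMap A₁ K₁).comp ρ₁)) ≫ r) ⟶
          Over.mk (Spec.map (CommRingCat.ofHom φ₁) ≫ sq.str) :=
        smap (algebraMap A₁ K₁) (by rw [← hρ₁r, spec_w])
      have e₁ : ψ₁o ≫ sq.j = j₁ ≫ φ₁o := Over.OverMorphism.ext (by
        show Spec.map _ ≫ Spec.map _ = Spec.map _ ≫ Spec.map _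
        rw [← Spec.map_comp, ← Spec.map_comp, ← CommRingCat.ofHom_comp, hψ₁]
        rfl)
      have e₂ : jr ≫ eV = j₁ ≫ lV := Over.OverMorphism.ext (by
        show Spec.map _ ≫ _ = Spec.map _ ≫ lV.left
        rw [← hlV, CommRingCat.ofHom_comp]
        erw [Spec.map_comp]
        rw [Category.assoc]
        rfl)
      refine (congrArg (fun t => (yon S).map t ≫ sq.bot) e₁).trans (Eq.trans ?_
        (congrArg (fun t => (yon S).map t ≫ bV) e₂).symm)
      rw [Functor.map_comp, Functor.map_comp, Category.assoc, Category.assoc]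
      exact congrArg ((yon S).map j₁ ≫ ·) hl₁.symm)
  let k₁ : (Over.mk (Spec.map (CommRingCat.ofHom ((algebraMap A₁ K₁).comp ρ₁)) ≫ r)).left := closedPoint K₁
  -- an affine chart of the source
  obtain ⟨W, a₁, w₁, hW, ha₁, hw₁⟩ := exists_affine_chart_point hP (Points.ofPt p k₁)
  haveI : IsAffine W.left := hW
  obtain ⟨qW, hqW⟩ := (yon S).map_surjective (a₁ ≫ pullback.snd f c)
  let B : Type u := Γ(W.left, ⊤)
  let ρB : R →+* B := (Spec.preimage (W.left.isoSpec.inv ≫ qW.left :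
    Spec (CommRingCat.of B) ⟶ Spec (CommRingCat.of R))).hom
  have hρB : Spec.map (CommRingCat.ofHom ρB) = W.left.isoSpec.inv ≫ qW.left := Spec.map_preimage _
  let xB : Spec (CommRingCat.of B) ⟶ S := Spec.map (CommRingCat.ofHom ρB) ≫ r
  let eW : Over.mk xB ⟶ W := Over.homMk W.left.isoSpec.inv (by
    show W.left.isoSpec.inv ≫ W.hom = Spec.map _ ≫ r
    rw [hρB, Category.assoc]
    congr 1
    exact (Over.w qW).symm)
  haveI : IsIso eW.left := inferInstanceAs (IsIso W.left.isoSpec.inv)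
  let a₀ := (yon S).map eW ≫ a₁
  have ha₀ : RepWith @Etale a₀ := repWith_yon_comp eW (inferInstance : Etale eW.left) ha₁
  have ha₀snd : a₀ ≫ pullback.snd f c = (yon S).map (smap ρB rfl) := by
    rw [Category.assoc, ← hqW, ← Functor.map_comp]
    congr 1
    exact Over.OverMorphism.ext hρB.symm
  let a := a₀ ≫ pullback.fst f c
  have haf : a ≫ f = (yon S).map (smap ρB rfl) ≫ c := by
    rw [Category.assoc, pullback.condition, reassoc_of% ha₀snd]
  have haet : RepWith @Etale a := repWith_comp ha₀ (repWith_baseChange (IsPullback.of_hasPullback f c).flip hc)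
  let w : (Over.mk xB).left := W.left.isoSpec.hom w₁
  have hw : Points.ofPt a₀ w = Points.ofPt p k₁ := by
    rw [ofPt_comp, show eW.left w = w₁ by
      show (W.left.isoSpec.hom ≫ W.left.isoSpec.inv) w₁ = w₁
      rw [Iso.hom_inv_id]
      rfl]
    exact hw₁
  obtain ⟨W', q', r', sW⟩ := exists_isPullback (hP.representable_from_yon a₀) p
  obtain ⟨r₀, hr₀, -⟩ := (ofPt_eq_iff sW w k₁).1 hw
  let χ : B →+* W'.left.residueField r₀ :=
    (Spec.preimage (W'.left.fromSpecResidueField r₀ ≫ q'.left :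
      Spec (W'.left.residueField r₀) ⟶ Spec (CommRingCat.of B))).hom
  let ψ₀ : K₁ →+* W'.left.residueField r₀ :=
    (Spec.preimage (W'.left.fromSpecResidueField r₀ ≫ r'.left :
      Spec (W'.left.residueField r₀) ⟶ Spec (CommRingCat.of K₁))).hom
  have hχ : Spec.map (CommRingCat.ofHom χ) = W'.left.fromSpecResidueField r₀ ≫ q'.left := Spec.map_preimage _
  have hψ₀ : Spec.map (CommRingCat.ofHom ψ₀) = W'.left.fromSpecResidueField r₀ ≫ r'.left := Spec.map_preimage _
  have hWw : q' ≫ smap ρB rfl = r' ≫ jr := (yon S).map_injective (by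
    rw [Functor.map_comp, Functor.map_comp, ← ha₀snd, ← Category.assoc, sW.w, Category.assoc]
    exact congrArg ((yon S).map r' ≫ ·) (pullback.lift_snd _ _ _))
  obtain ⟨AL, hAL, hALloc⟩ := exists_factor_valuationRing (ψ₀.comp (algebraMap A₁ K₁))
  let φ₀ : A₁ →+* AL := (ψ₀.comp (algebraMap A₁ K₁)).codRestrict AL.toSubring hAL
  have hρA : χ.comp ρB = (algebraMap AL (W'.left.residueField r₀)).comp (φ₀.comp ρ₁) := by
    have : CommRingCat.ofHom (χ.comp ρB) = CommRingCat.ofHom (ψ₀.comp ((algebraMap A₁ K₁).comp ρ₁)) := by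
      apply Spec.map_injective
      rw [CommRingCat.ofHom_comp, CommRingCat.ofHom_comp ((algebraMap A₁ K₁).comp ρ₁) ψ₀]
      erw [Spec.map_comp, Spec.map_comp]
      rw [hχ, hψ₀, Category.assoc, Category.assoc]
      exact congrArg (fun t => W'.left.fromSpecResidueField r₀ ≫ t) (congrArg (fun t => t.left) hWw)
    exact congrArg CommRingCat.Hom.hom this
  -- the dense part
  have sU := IsPullback.of_hasPullback h a
  have hUWqc : IsQuasiCompactSp (pullback h a) := hh (IsAlgSpace.yon_obj _)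
    ((isQuasiCompactSp_iff_affine (IsAlgSpace.yon_obj _)).2
      ⟨_, 𝟙 _, inferInstanceAs (IsAffine (Spec (CommRingCat.of B))), repWith_id _ _, repWith_id _ _⟩) _ _ _ sU
  obtain ⟨Z, zc, hZ, hzc, hzcs⟩ :=
    (isQuasiCompactSp_iff_affine (isAlgSpace_of_isPullback sU hU (IsAlgSpace.yon_obj _) hX)).1 hUWqc
  haveI : IsAffine Z.left := hZ
  obtain ⟨qZ, hqZ⟩ := (yon S).map_surjective (zc ≫ pullback.snd h a)
  let D : Type u := Γ(Z.left, ⊤)
  let γ : B →+* D := (Spec.preimage (Z.left.isoSpec.inv ≫ qZ.left :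
    Spec (CommRingCat.of D) ⟶ Spec (CommRingCat.of B))).hom
  have hγ : Spec.map (CommRingCat.ofHom γ) = Z.left.isoSpec.inv ≫ qZ.left := Spec.map_preimage _
  let eZ : Over.mk (Spec.map (CommRingCat.ofHom (γ.comp ρB)) ≫ r) ⟶ Z := Over.homMk Z.left.isoSpec.inv (by
    show Z.left.isoSpec.inv ≫ Z.hom = Spec.map _ ≫ r
    rw [← spec_w, hγ, Category.assoc]
    congr 1
    exact (Over.w qZ).symm)
  let zU := (yon S).map eZ ≫ zc ≫ pullback.fst h a
  have hzU : zU ≫ h = (yon S).map (smap γ (spec_w γ ρB r)) ≫ a := by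
    rw [Category.assoc, Category.assoc, pullback.condition, ← Category.assoc zc, ← hqZ,
      ← Category.assoc ((yon S).map eZ), ← Functor.map_comp]
    congr 2
    exact Over.OverMorphism.ext hγ.symm
  have hsub : Points.ofPt a ⁻¹' Set.range (Points.map h) ⊆ Set.range (PrimeSpectrum.comap γ) := by
    rintro b ⟨u, hu⟩
    obtain ⟨z, -, hz⟩ := exists_point_of_isPullback sU u (Points.ofPt (𝟙 _) b)
      (by rw [hu, Points.map_ofPt, Category.id_comp])
    obtain ⟨z', rfl⟩ := surjective_ofPt hzcs z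
    refine ⟨Z.left.isoSpec.hom z', ?_⟩
    show Spec.map (CommRingCat.ofHom γ) (Z.left.isoSpec.hom z') = b
    rw [hγ, ← Scheme.Hom.comp_apply, Iso.hom_inv_id_assoc]
    refine Groth.Agent.AlgSpUnivClosed.ofPt_id_injective (T := Over.mk xB) ?_
    rw [← hz, Points.map_ofPt, ← hqZ, ← Category.comp_id ((yon S).map qZ)]
    exact (ofPt_comp qZ (𝟙 _) z').symm
  have hker : RingHom.ker γ ≤ RingHom.ker χ := by
    have hw' : (w : PrimeSpectrum B) ∈ closure (Set.range (PrimeSpectrum.comap γ)) :=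
      closure_mono hsub ((hd.preimage (isOpenMap_ofPt_of_etale haet)) w)
    rw [PrimeSpectrum.closure_range_comap] at hw'
    replace hw' := (PrimeSpectrum.mem_zeroLocus _ _).1 hw'
    intro x hx
    rw [RingHom.mem_ker, ← mem_asIdeal_iff_of_field, hχ, Scheme.Hom.comp_apply,
      Scheme.fromSpecResidueField_apply, hr₀]
    exact hw' hx
  haveI : (RingHom.ker χ).IsPrime := RingHom.ker_isPrime χ
  obtain ⟨q, hq, hqχ⟩ := Ideal.exists_minimalPrimes_le hker
  obtain ⟨Q, hQ, -, hQq⟩ := Ideal.exists_comap_eq_of_mem_minimalPrimes (I := ⊥) γ q hq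
  haveI := hQ
  obtain ⟨A₃, _, _, _, M, _, _, _, φ₃, ψ₃, hφψ₃, l, hφ₃loc, hlf, hltop⟩ :=
    exists_lift_of_dense_chart hv r c ρB a haf γ zU hzU Q (φ₀.comp ρ₁) χ hρA (hQq.le.trans hqχ)
  -- assemble the extension
  haveI := hφ₁loc
  haveI : IsLocalHom φ₀ := hALloc
  haveI := hφ₃loc
  have hcomm : (algebraMap A₃ M).comp (φ₃.comp (φ₀.comp φ₁)) =
      (ψ₃.comp (ψ₀.comp ψ₁)).comp (algebraMap sq.A sq.K) := by
    rw [RingHom.comp_assoc, RingHom.comp_assoc, hψ₁, ← RingHom.comp_assoc, hφψ₃]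
    rfl
  let e : sq.DomExt :=
    { A' := A₃, K' := M, φ := φ₃.comp (φ₀.comp φ₁), ψ := ψ₃.comp (ψ₀.comp ψ₁), comm := hcomm,
      isLocalHom := RingHom.isLocalHom_comp _ _ }
  have hA : Spec.map (CommRingCat.ofHom (φ₃.comp (φ₀.comp φ₁))) ≫ sq.str =
      Spec.map (CommRingCat.ofHom (φ₃.comp (φ₀.comp ρ₁))) ≫ r := by
    rw [← RingHom.comp_assoc, ← spec_w, ← hρ₁r, spec_w, RingHom.comp_assoc]
  let br : e.ptA' ⟶ Over.mk (Spec.map (CommRingCat.ofHom (φ₃.comp (φ₀.comp ρ₁))) ≫ r) :=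
    Over.homMk (𝟙 _) (by rw [Category.id_comp]; exact hA.symm)
  refine ⟨e, (yon S).map br ≫ l, ?_, ?_⟩
  · let y : e.ptK' ⟶ W' := Over.homMk (Spec.map (CommRingCat.ofHom ψ₃) ≫ W'.left.fromSpecResidueField r₀) (by
      show (Spec.map (CommRingCat.ofHom ψ₃) ≫ W'.left.fromSpecResidueField r₀) ≫ W'.hom =
        Spec.map _ ≫ Spec.map (CommRingCat.ofHom (φ₃.comp (φ₀.comp φ₁))) ≫ sq.str
      rw [hA, spec_w, ← RingHom.comp_assoc, hφψ₃, RingHom.comp_assoc, ← hρA, ← RingHom.comp_assoc, ← spec_w,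
        Category.assoc, ← Over.w q', ← Category.assoc (W'.left.fromSpecResidueField r₀), ← hχ, ← Category.assoc,
        ← Spec.map_comp, ← CommRingCat.ofHom_comp]
      rfl)
    let xM : Over S := Over.mk (Spec.map (CommRingCat.ofHom ((ψ₃.comp χ).comp ρB)) ≫ r)
    let br₂ : e.ptK' ⟶ xM := Over.homMk (𝟙 _) (by
      rw [Category.id_comp]
      show _ = Spec.map _ ≫ Spec.map (CommRingCat.ofHom (φ₃.comp (φ₀.comp φ₁))) ≫ sq.str
      rw [hA, spec_w, ← RingHom.comp_assoc, hφψ₃, RingHom.comp_assoc, ← hρA]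
      rfl)
    have e₁ := congrArg ((yon S).map br₂ ≫ ·) hltop
    have e₂ : (yon S).map (y ≫ q') ≫ a = (yon S).map (y ≫ r') ≫ (yon S).map ψ₁o ≫ sq.top := by
      show (yon S).map (y ≫ q') ≫ a₀ ≫ pullback.fst f c = _
      rw [Functor.map_comp, Functor.map_comp, Category.assoc ((yon S).map y), Category.assoc ((yon S).map y)]
      exact congrArg ((yon S).map y ≫ ·) (((Category.assoc ((yon S).map q') a₀ (pullback.fst f c)).symm).trans
        ((congrArg (· ≫ pullback.fst f c) sW.w).trans ((Category.assoc _ _ _).trans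
          (congrArg ((yon S).map r' ≫ ·) (pullback.lift_fst _ _ _)))))
    simp only [← Category.assoc, ← Functor.map_comp] at e₁ e₂ ⊢
    refine Eq.trans ?_ (e₁.trans (Eq.trans ?_ (e₂.trans ?_)))
    · congr 2
    · congr 2
      refine Over.OverMorphism.ext ?_
      show 𝟙 _ ≫ Spec.map _ = (Spec.map _ ≫ _) ≫ q'.left
      rw [Category.id_comp, Category.assoc, ← hχ, ← Spec.map_comp]
      rfl
    · congr 2
      refine Over.OverMorphism.ext ?_
      show ((Spec.map _ ≫ _) ≫ r'.left) ≫ Spec.map _ = Spec.map _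
      rw [Category.assoc (Spec.map _) _ r'.left, ← hψ₀, ← Spec.map_comp, ← Spec.map_comp]
      rfl
  · rw [Category.assoc, hlf]
    let x : e.ptA' ⟶ Over.mk (Spec.map (CommRingCat.ofHom φ₁) ≫ sq.str) := smap (φ₃.comp φ₀) (by
      show _ ≫ _ ≫ sq.str = Spec.map (CommRingCat.ofHom (φ₃.comp (φ₀.comp φ₁))) ≫ sq.str
      rw [spec_w, RingHom.comp_assoc])
    have e₁ := congrArg ((yon S).map x ≫ ·) hl₁
    show (yon S).map br ≫ (yon S).map _ ≫ (yon S).map eV ≫ bV = _
    simp only [← Category.assoc, ← Functor.map_comp] at e₁ ⊢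
    refine Eq.trans ?_ (e₁.trans ?_)
    · congr 2
      refine Over.OverMorphism.ext ?_
      show (𝟙 _ ≫ Spec.map _) ≫ V.left.isoSpec.inv = Spec.map _ ≫ lV.left
      rw [Category.id_comp, ← hlV, ← Category.assoc, ← Spec.map_comp]
      rfl
    · congr 2
      refine Over.OverMorphism.ext ?_
      show Spec.map _ ≫ Spec.map _ = Spec.map _
      rw [← Spec.map_comp]
      rfl

/-- The refined criterion. -/
theorem isUnivClosedMor_of_refined {U X Y : Sp S} (hU : IsAlgSpace U) (hX : IsAlgSpace X) (hY : IsAlgSpace Y)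
    {f : X ⟶ Y} {h : U ⟶ X} (hf : IsQuasiCompactMor f) (hh : IsQuasiCompactMor h)
    (hd : DenseRange (Points.map h))
    (hv : ∀ sq : ValSq f, (∃ t : (yon S).obj sq.ptK ⟶ U, t ≫ h = sq.top) → sq.HasUniq ∧ sq.HasLiftExt) :
    IsUnivClosedMor f :=
  Groth.Agent.AlgSpUnivClosed.isUnivClosedMor_of_existVC hX hY hf (hasLiftExt_of_refined hU hX hY hh hd hv)

/-- Uniqueness on the dense part gives the criterion for the diagonal. -/
theorem valSq_diagonal {U X Y : Sp S} {f : X ⟶ Y} {h : U ⟶ X}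
    (hv : ∀ sq : ValSq f, (∃ t : (yon S).obj sq.ptK ⟶ U, t ≫ h = sq.top) → sq.HasUniq)
    (sq : ValSq (pullback.diagonal f)) (ht : ∃ t : (yon S).obj sq.ptK ⟶ U, t ≫ h = sq.top) :
    sq.HasUniq ∧ sq.HasLiftExt := by
  have c₁ : (yon S).map sq.j ≫ sq.bot ≫ pullback.fst f f = sq.top := by
    have := congrArg (· ≫ pullback.fst f f) sq.comm
    simp only [Category.assoc, pullback.diagonal_fst, Category.comp_id] at this
    exact this.symm
  have c₂ : (yon S).map sq.j ≫ sq.bot ≫ pullback.snd f f = sq.top := by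
    have := congrArg (· ≫ pullback.snd f f) sq.comm
    simp only [Category.assoc, pullback.diagonal_snd, Category.comp_id] at this
    exact this.symm
  refine ⟨fun l l' _ hl _ hl' => ?_, Groth.Agent.AlgSpUnivClosed.hasLiftExt_of_hasLift sq
    ⟨sq.bot ≫ pullback.fst f f, c₁, ?_⟩⟩
  · have e : ∀ m, m ≫ pullback.diagonal f = sq.bot → m = sq.bot ≫ pullback.fst f f := fun m hm => by
      rw [← hm, Category.assoc, pullback.diagonal_fst, Category.comp_id]
    rw [e l hl, e l' hl']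
  · let sq₁ : ValSq f :=
      { A := sq.A, K := sq.K, str := sq.str, top := sq.top, bot := (sq.bot ≫ pullback.fst f f) ≫ f,
        comm := ((congrArg (· ≫ f) c₁.symm).trans (Category.assoc _ _ _)) }
    have e : sq.bot ≫ pullback.fst f f = sq.bot ≫ pullback.snd f f := hv sq₁ ht _ _ c₁ rfl c₂ (by
      show (sq.bot ≫ pullback.snd f f) ≫ f = (sq.bot ≫ pullback.fst f f) ≫ f
      simp only [Category.assoc, pullback.condition])
    apply pullback.hom_ext
    · simp only [Category.assoc, pullback.diagonal_fst, Category.comp_id]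
    · simp only [Category.assoc, pullback.diagonal_snd, Category.comp_id]
      exact e

/-- The refined criterion for separatedness. -/
theorem isSeparatedMor_of_refined {U X Y : Sp S} (hU : IsAlgSpace U) (hX : IsAlgSpace X) (hY : IsAlgSpace Y)
    {f : X ⟶ Y} {h : U ⟶ X} (hqs : IsQuasiSeparatedMor f) (hh : IsQuasiCompactMor h)
    (hd : DenseRange (Points.map h))
    (hv : ∀ sq : ValSq f, (∃ t : (yon S).obj sq.ptK ⟶ U, t ≫ h = sq.top) → sq.HasUniq) :
    IsSeparatedMor f := by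
  have hR := isAlgSpace_pullback f f hX hX hY
  refine isSeparatedMor_of_diag_univClosed hX hY f
    (isUnivClosedMor_of_refined hU hX hR ?_ hh hd (valSq_diagonal hv))
  exact Groth.Agent.AlgStLib.isQuasiCompactMor_of_repWith hX hR hqs

end Groth.Agent.AlgSpRefinedVal
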