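import Groth.Agent.AlgSpUnivClosed.Existence

/-!
Valuation rings for the refined valuative criterion.
-/

set_option autoImplicit false
set_option backward.isDefEq.respectTransparency.types false

universe u

open CategoryTheory CategoryTheory.Limits AlgebraicGeometry IsLocalRing

namespace Groth.Agent.AlgSpRefinedVal

/-- The image of a valuation ring in a field containing it, as a valuation subring. -/
noncomputable def imageVS (A K : Type u) [CommRing A] [IsDomain A] [ValuationRing A] [Field K] [Algebra A K]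
    [IsFractionRing A K] : ValuationSubring K :=
  ValuationSubring.ofSubring (algebraMap A K).range fun x => by
    rcases ((ValuationRing.iff_isInteger_or_isInteger A K).1 inferInstance) x with ⟨y, hy⟩ | ⟨y, hy⟩
    · exact Or.inl ⟨y, hy⟩
    · exact Or.inr ⟨y, hy⟩

theorem mem_imageVS {A K : Type u} [CommRing A] [IsDomain A] [ValuationRing A] [Field K] [Algebra A K]
    [IsFractionRing A K] {x : K} : x ∈ imageVS A K ↔ ∃ a, algebraMap A K a = x := Iff.rfl

theorem flat_spec_of_injective {A B : Type u} [CommRing A] [IsDomain A] [ValuationRing A] [CommRing B] [IsDomain B]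
    (f : A →+* B) (hf : Function.Injective f) : Flat (Spec.map (CommRingCat.ofHom f)) := by
  rw [HasRingHomProperty.Spec_iff (P := @Flat)]
  letI : Algebra A B := f.toAlgebra
  haveI : FaithfulSMul A B := (faithfulSMul_iff_algebraMap_injective _ _).2 hf
  exact RingHom.flat_algebraMap_iff.2
    (Module.Flat.flat_iff_torsion_eq_bot_of_isBezout.2 (Submodule.isTorsionFree_iff_torsion_eq_bot.1 inferInstance))

/-- The generic point. -/
noncomputable def gen (A : Type u) [CommRing A] [IsDomain A] : ↥(Spec (CommRingCat.of A)) :=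
  (⟨⊥, Ideal.isPrime_bot⟩ : PrimeSpectrum A)

theorem gen_specializes {A : Type u} [CommRing A] [IsDomain A] (x : ↥(Spec (CommRingCat.of A))) : gen A ⤳ x :=
  (PrimeSpectrum.le_iff_specializes (gen A) x).1 bot_le

theorem eq_gen_of_specializes {A : Type u} [CommRing A] [IsDomain A] {x : ↥(Spec (CommRingCat.of A))}
    (h : x ⤳ gen A) : x = gen A :=
  PrimeSpectrum.ext (le_antisymm ((PrimeSpectrum.le_iff_specializes x (gen A)).2 h) bot_le)

/-- Two dominating extensions of a valuation ring are dominated by a third. -/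
theorem exists_amalgam {A₀ A₁ A₂ : Type u} [CommRing A₀] [IsDomain A₀] [ValuationRing A₀] [CommRing A₁]
    [IsDomain A₁] [ValuationRing A₁] [CommRing A₂] [IsDomain A₂] [ValuationRing A₂] (f₁ : A₀ →+* A₁)
    (h₁ : Function.Injective f₁) [IsLocalHom f₁] (f₂ : A₀ →+* A₂) (h₂ : Function.Injective f₂) [IsLocalHom f₂] :
    ∃ (A₃ : Type u) (_ : CommRing A₃) (_ : IsDomain A₃) (_ : ValuationRing A₃) (M : Type u) (_ : Field M)
      (_ : Algebra A₃ M) (_ : IsFractionRing A₃ M) (g₁ : A₁ →+* A₃) (g₂ : A₂ →+* A₃),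
      g₁.comp f₁ = g₂.comp f₂ ∧ IsLocalHom g₁ ∧ Function.Injective ((algebraMap A₃ M).comp g₁) ∧
        Function.Injective ((algebraMap A₃ M).comp g₂) := by
  let p₁ : Spec (CommRingCat.of A₁) ⟶ Spec (CommRingCat.of A₀) := Spec.map (CommRingCat.ofHom f₁)
  let p₂ : Spec (CommRingCat.of A₂) ⟶ Spec (CommRingCat.of A₀) := Spec.map (CommRingCat.ofHom f₂)
  have hp₁ : Flat p₁ := flat_spec_of_injective f₁ h₁
  have hp₂ : Flat p₂ := flat_spec_of_injective f₂ h₂
  have : Flat (pullback.fst p₁ p₂) := MorphismProperty.pullback_fst _ _ hp₂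
  have : Flat (pullback.snd p₁ p₂) := MorphismProperty.pullback_snd _ _ hp₁
  obtain ⟨t, ht₁, ht₂⟩ := Scheme.Pullback.exists_preimage_pullback (f := p₁) (g := p₂)
    (closedPoint A₁) (closedPoint A₂)
    ((IsLocalRing.comap_closedPoint (S := A₁) f₁).trans (IsLocalRing.comap_closedPoint (S := A₂) f₂).symm)
  obtain ⟨t₁, hs₁, ht₁'⟩ := Flat.generalizingMap (pullback.fst p₁ p₂) (a := t) (b := gen A₁) (by
    rw [ht₁]
    exact gen_specializes _)
  obtain ⟨t₂, hs₂, ht₂'⟩ := Flat.generalizingMap (pullback.snd p₁ p₂) (a := t₁) (b := gen A₂) (gen_specializes _)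
  have ht₂'' : pullback.fst p₁ p₂ t₂ = gen A₁ :=
    eq_gen_of_specializes (ht₁' ▸ hs₂.map (pullback.fst p₁ p₂).continuous)
  obtain ⟨A₃, _, _, _, _, _, β, hβ, hβt⟩ :=
    Groth.Agent.AlgSpUnivClosed.exists_valuation_over (𝟙 (pullback p₁ p₂)) t₂ (hs₂.trans hs₁)
  let g₁ : A₁ →+* A₃ := (Spec.preimage (β ≫ pullback.fst p₁ p₂ : Spec (CommRingCat.of A₃) ⟶ Spec (CommRingCat.of A₁))).hom
  let g₂ : A₂ →+* A₃ := (Spec.preimage (β ≫ pullback.snd p₁ p₂ : Spec (CommRingCat.of A₃) ⟶ Spec (CommRingCat.of A₂))).hom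
  have hg₁ : Spec.map (CommRingCat.ofHom g₁) = β ≫ pullback.fst p₁ p₂ := Spec.map_preimage _
  have hg₂ : Spec.map (CommRingCat.ofHom g₂) = β ≫ pullback.snd p₁ p₂ := Spec.map_preimage _
  have inj : ∀ {A : Type u} [CommRing A] [IsDomain A] (g : A →+* A₃)
      (q : pullback p₁ p₂ ⟶ Spec (CommRingCat.of A)), Spec.map (CommRingCat.ofHom g) = β ≫ q → q t₂ = gen A →
      Function.Injective ((algebraMap A₃ ((pullback p₁ p₂).residueField t₂)).comp g) := by
    intro A _ _ g q hg hq
    rw [injective_iff_map_eq_zero]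
    intro y hy
    let k : Spec ((pullback p₁ p₂).residueField t₂) := closedPoint ((pullback p₁ p₂).residueField t₂)
    have hk : Spec.map (CommRingCat.ofHom ((algebraMap A₃ ((pullback p₁ p₂).residueField t₂)).comp g)) k = gen A := by
      rw [CommRingCat.ofHom_comp]
      erw [Spec.map_comp]
      rw [hg, ← Category.assoc, ← hβ, Category.comp_id, Scheme.Hom.comp_apply, Scheme.fromSpecResidueField_apply]
      exact hq
    have hy' : y ∈ (gen A).asIdeal := by
      rw [← hk]
      show (algebraMap A₃ ((pullback p₁ p₂).residueField t₂)).comp g y ∈ k.asIdeal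
      rw [hy]
      exact Submodule.zero_mem _
    exact hy'
  refine ⟨A₃, inferInstance, inferInstance, inferInstance, (pullback p₁ p₂).residueField t₂, inferInstance,
    inferInstance, inferInstance, g₁, g₂, ?_, ?_, inj g₁ _ hg₁ ht₂'', inj g₂ _ hg₂ ht₂'⟩
  · have : CommRingCat.ofHom f₁ ≫ CommRingCat.ofHom g₁ = CommRingCat.ofHom f₂ ≫ CommRingCat.ofHom g₂ := by
      apply Spec.map_injective
      rw [Spec.map_comp, Spec.map_comp, hg₁, hg₂, Category.assoc, Category.assoc]
      exact congrArg (β ≫ ·) pullback.condition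
    exact congrArg CommRingCat.Hom.hom this
  · rw [isLocalHom_iff_comap_closedPoint]
    show Spec.map (CommRingCat.ofHom g₁) (closedPoint A₃) = closedPoint A₁
    rw [hg₁, Scheme.Hom.comp_apply, hβt, ht₁]

end Groth.Agent.AlgSpRefinedVal
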