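import Groth.Agent.AlgSpRefinedVal.Algebra

/-!
The affine core of the refined valuative criterion.
-/

set_option autoImplicit false
set_option backward.isDefEq.respectTransparency.types false

universe u

open CategoryTheory CategoryTheory.Limits AlgebraicGeometry Opposite AlgSp IsLocalRing

namespace Groth.Agent.AlgSpRefinedVal

variable {S : Scheme.{u}}

/-- A map of spectra over the base. -/
noncomputable def smap {D D' : Type u} [CommRing D] [CommRing D'] {x : Spec (CommRingCat.of D) ⟶ S}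
    {x' : Spec (CommRingCat.of D') ⟶ S} (θ : D →+* D') (w : Spec.map (CommRingCat.ofHom θ) ≫ x = x') :
    Over.mk x' ⟶ Over.mk x :=
  Over.homMk (Spec.map (CommRingCat.ofHom θ)) w

theorem spec_w {R D D' : Type u} [CommRing R] [CommRing D] [CommRing D'] (θ : D →+* D') (ρ : R →+* D)
    (r : Spec (CommRingCat.of R) ⟶ S) :
    Spec.map (CommRingCat.ofHom θ) ≫ Spec.map (CommRingCat.ofHom ρ) ≫ r =
      Spec.map (CommRingCat.ofHom (θ.comp ρ)) ≫ r := by
  rw [← Spec.map_comp_assoc]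
  rfl

theorem smap_comp {D D' D'' : Type u} [CommRing D] [CommRing D'] [CommRing D''] {x : Spec (CommRingCat.of D) ⟶ S}
    {x' : Spec (CommRingCat.of D') ⟶ S} {x'' : Spec (CommRingCat.of D'') ⟶ S} (θ : D →+* D')
    (w : Spec.map (CommRingCat.ofHom θ) ≫ x = x') (η : D' →+* D'')
    (w' : Spec.map (CommRingCat.ofHom η) ≫ x' = x'') (w'' : Spec.map (CommRingCat.ofHom (η.comp θ)) ≫ x = x'') :
    smap η w' ≫ smap θ w = smap (η.comp θ) w'' := by
  refine Over.OverMorphism.ext ?_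
  show Spec.map _ ≫ Spec.map _ = Spec.map _
  rw [← Spec.map_comp]
  rfl

theorem map_smap_congr {D D' : Type u} [CommRing D] [CommRing D'] {x : Spec (CommRingCat.of D) ⟶ S}
    {x' : Spec (CommRingCat.of D') ⟶ S} {θ η : D →+* D'} {w : Spec.map (CommRingCat.ofHom θ) ≫ x = x'}
    {w' : Spec.map (CommRingCat.ofHom η) ≫ x = x'} (h : θ = η) {F : Sp S} (a : (yon S).obj (Over.mk x) ⟶ F) :
    (yon S).map (smap θ w) ≫ a = (yon S).map (smap η w') ≫ a := by
  subst h
  rfl

theorem map_smap_smap {D D' D'' : Type u} [CommRing D] [CommRing D'] [CommRing D'']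
    {x : Spec (CommRingCat.of D) ⟶ S}
    {x' : Spec (CommRingCat.of D') ⟶ S} {x'' : Spec (CommRingCat.of D'') ⟶ S} (θ : D →+* D')
    (w : Spec.map (CommRingCat.ofHom θ) ≫ x = x') (η : D' →+* D'')
    (w' : Spec.map (CommRingCat.ofHom η) ≫ x' = x'') (w'' : Spec.map (CommRingCat.ofHom (η.comp θ)) ≫ x = x'')
    {F : Sp S} (a : (yon S).obj (Over.mk x) ⟶ F) :
    (yon S).map (smap η w') ≫ (yon S).map (smap θ w) ≫ a = (yon S).map (smap (η.comp θ) w'') ≫ a := by
  rw [← Category.assoc, ← Functor.map_comp, smap_comp θ w η w' w'']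

set_option maxHeartbeats 1000000 in
theorem exists_lift_of_dense_chart {U X Y : Sp S} {f : X ⟶ Y} {h : U ⟶ X}
    (hv : ∀ sq : ValSq f, (∃ t : (yon S).obj sq.ptK ⟶ U, t ≫ h = sq.top) → sq.HasUniq ∧ sq.HasLiftExt)
    {R : Type u} [CommRing R] (r : Spec (CommRingCat.of R) ⟶ S) (c : (yon S).obj (Over.mk r) ⟶ Y)
    {B : Type u} [CommRing B] (ρB : R →+* B) (a : (yon S).obj (Over.mk (Spec.map (CommRingCat.ofHom ρB) ≫ r)) ⟶ X)
    (ha : a ≫ f = (yon S).map (smap ρB rfl) ≫ c) {D : Type u} [CommRing D] (γ : B →+* D)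
    (zU : (yon S).obj (Over.mk (Spec.map (CommRingCat.ofHom (γ.comp ρB)) ≫ r)) ⟶ U)
    (hzU : zU ≫ h = (yon S).map (smap γ (spec_w γ ρB r)) ≫ a) (Q : Ideal D) [Q.IsPrime]
    {A K : Type u} [CommRing A] [IsDomain A] [ValuationRing A] [Field K] [Algebra A K] [IsFractionRing A K]
    (ρA : R →+* A) (χ : B →+* K) (hχ : χ.comp ρB = (algebraMap A K).comp ρA)
    (hQ : Q.comap γ ≤ RingHom.ker χ) :
    ∃ (A₃ : Type u) (_ : CommRing A₃) (_ : IsDomain A₃) (_ : ValuationRing A₃) (M : Type u) (_ : Field M)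
      (_ : Algebra A₃ M) (_ : IsFractionRing A₃ M) (φ : A →+* A₃) (ψ : K →+* M)
      (hφψ : (algebraMap A₃ M).comp φ = ψ.comp (algebraMap A K))
      (l : (yon S).obj (Over.mk (Spec.map (CommRingCat.ofHom (φ.comp ρA)) ≫ r)) ⟶ X),
      IsLocalHom φ ∧ l ≫ f = (yon S).map (smap (φ.comp ρA) rfl) ≫ c ∧
      (yon S).map (smap (x' := Spec.map (CommRingCat.ofHom ((ψ.comp χ).comp ρB)) ≫ r) (algebraMap A₃ M)
        (by rw [spec_w, ← RingHom.comp_assoc, hφψ, RingHom.comp_assoc, ← hχ, RingHom.comp_assoc])) ≫ l =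
        (yon S).map (smap (x' := Spec.map (CommRingCat.ofHom ((ψ.comp χ).comp ρB)) ≫ r) (ψ.comp χ)
          (spec_w _ _ r)) ≫ a := by
  let p : Ideal B := RingHom.ker χ
  haveI : p.IsPrime := RingHom.ker_isPrime χ
  -- the generalisation and a valuation ring dominating the point
  let κz : Type u := FractionRing (D ⧸ Q)
  let π : D →+* κz := (algebraMap (D ⧸ Q) κz).comp (Ideal.Quotient.mk Q)
  let ε : B →+* κz := π.comp γ
  have hε : ∀ x : p.primeCompl, IsUnit (ε x) := fun x => isUnit_iff_ne_zero.2 fun h => x.2 (hQ (by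
    rw [Ideal.mem_comap]
    exact Ideal.Quotient.eq_zero_iff_mem.1 ((IsFractionRing.to_map_eq_zero_iff (K := κz)).1 h)))
  obtain ⟨B₁, hB₁, hB₁loc⟩ := exists_factor_valuationRing
    (IsLocalization.lift (M := p.primeCompl) (S := Localization.AtPrime p) hε)
  let εB : B →+* B₁ := ((IsLocalization.lift (M := p.primeCompl) (S := Localization.AtPrime p) hε).codRestrict
    B₁.toSubring hB₁).comp (algebraMap B (Localization.AtPrime p))
  have hεB : ∀ b : B, (εB b : κz) = ε b := fun b => IsLocalization.lift_eq hε b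
  let η : B →+* ResidueField B₁ := (residue B₁).comp εB
  have hη : RingHom.ker η = p := by
    ext x
    rw [RingHom.mem_ker, RingHom.comp_apply, residue_eq_zero_iff,
      ← IsLocalization.AtPrime.to_map_mem_maximal_iff (Localization.AtPrime p) p x]
    constructor
    · intro hx
      by_contra hc
      rw [IsLocalRing.mem_maximalIdeal, mem_nonunits_iff, not_not] at hc
      exact hx (hc.map ((IsLocalization.lift (M := p.primeCompl) (S := Localization.AtPrime p) hε).codRestrict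
        B₁.toSubring hB₁))
    · intro hx hu
      exact hx (hB₁loc.map_nonunit _ hu)
  -- the residue field of the point
  let κw : Type u := FractionRing (B ⧸ p)
  let qw : B →+* κw := (algebraMap (B ⧸ p) κw).comp (Ideal.Quotient.mk p)
  let χ' : B ⧸ p →+* K := Ideal.Quotient.lift p χ fun x hx => hx
  have hχ' : Function.Injective χ' := RingHom.lift_injective_of_ker_le_ideal _ _ le_rfl
  let toK : κw →+* K := IsFractionRing.lift hχ'
  let η' : B ⧸ p →+* ResidueField B₁ := Ideal.Quotient.lift p η fun x hx => hη.ge hx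
  have hη' : Function.Injective η' := RingHom.lift_injective_of_ker_le_ideal _ _ hη.le
  let toK₁ : κw →+* ResidueField B₁ := IsFractionRing.lift hη'
  have htoK : ∀ b, toK (qw b) = χ b := fun b => IsFractionRing.lift_algebraMap hχ' _
  have htoK₁ : ∀ b, toK₁ (qw b) = η b := fun b => IsFractionRing.lift_algebraMap hη' _
  let VA : ValuationSubring K := imageVS A K
  let Aw : ValuationSubring κw := VA.comap toK
  obtain ⟨A'', hA'', hA''loc⟩ := exists_factor_valuationRing (toK₁.comp Aw.subtype)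
  -- the composite valuation ring
  let Csub : Subring κz := (A''.toSubring.comap (residue B₁)).map B₁.subtype
  have hCsub : ∀ x, x ∈ Csub ↔ ∃ hx : x ∈ B₁, residue B₁ ⟨x, hx⟩ ∈ A'' := fun x =>
    ⟨fun ⟨b, hb, hbx⟩ => hbx ▸ ⟨b.2, hb⟩, fun ⟨hx, h⟩ => ⟨⟨x, hx⟩, h, rfl⟩⟩
  have hmax : ∀ x : κz, ∀ hx : x ∈ B₁, x⁻¹ ∉ B₁ → residue B₁ ⟨x, hx⟩ = 0 := fun x hx hi => by
    rw [residue_eq_zero_iff, IsLocalRing.mem_maximalIdeal, mem_nonunits_iff]
    intro hu
    obtain ⟨v, hv⟩ := hu.exists_right_inv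
    have hv' : x * (v : κz) = 1 := congrArg Subtype.val hv
    exact hi (by rw [inv_eq_of_mul_eq_one_right hv']; exact v.2)
  let C : ValuationSubring κz := ValuationSubring.ofSubring Csub fun x => by
    by_cases hx : x ∈ B₁
    · by_cases hi : x⁻¹ ∈ B₁
      · rcases eq_or_ne x 0 with rfl | hx0
        · exact Or.inl Csub.zero_mem
        rcases A''.mem_or_inv_mem (residue B₁ ⟨x, hx⟩) with h | h
        · exact Or.inl ((hCsub x).2 ⟨hx, h⟩)
        · refine Or.inr ((hCsub _).2 ⟨hi, ?_⟩)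
          rw [show (residue B₁ ⟨x, hx⟩)⁻¹ = residue B₁ ⟨x⁻¹, hi⟩ from inv_eq_of_mul_eq_one_right (by
            rw [← map_mul, ← map_one (residue B₁)]
            exact congrArg _ (Subtype.ext (mul_inv_cancel₀ hx0)))] at h
          exact h
      · exact Or.inl ((hCsub x).2 ⟨hx, by rw [hmax x hx hi]; exact A''.zero_mem⟩)
    · have hi : x⁻¹ ∈ B₁ := (B₁.mem_or_inv_mem x).resolve_left hx
      exact Or.inr ((hCsub _).2 ⟨hi, by rw [hmax _ hi (by rwa [inv_inv])]; exact A''.zero_mem⟩)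
  let CtoB₁ : C →+* B₁ := C.subtype.codRestrict B₁.toSubring fun x => ((hCsub x).1 x.2).1
  let qC : C →+* A'' := ((residue B₁).comp CtoB₁).codRestrict A''.toSubring fun x => ((hCsub x).1 x.2).2
  have hR : ∀ x, qw (ρB x) ∈ Aw := fun x => ValuationSubring.mem_comap.2 (mem_imageVS.2
    ⟨ρA x, ((RingHom.congr_fun hχ x).symm.trans (htoK _).symm)⟩)
  let ρw : R →+* Aw := (qw.comp ρB).codRestrict Aw.toSubring hR
  let ρC : R →+* C := (ε.comp ρB).codRestrict C.toSubring fun x => (hCsub _).2 ⟨by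
    rw [show (ε.comp ρB) x = (εB (ρB x) : κz) from (hεB _).symm]
    exact (εB (ρB x)).2, by
    rw [show (⟨(ε.comp ρB) x, _⟩ : B₁) = εB (ρB x) from Subtype.ext (hεB _).symm]
    show η (ρB x) ∈ A''
    rw [← htoK₁]
    exact hA'' ⟨_, hR x⟩⟩
  have hπρ : (algebraMap C κz).comp ρC = π.comp (γ.comp ρB) := rfl
  let sq : ValSq f :=
    { A := C
      K := κz
      str := Spec.map (CommRingCat.ofHom ρC) ≫ r
      top := (yon S).map (smap π (by rw [spec_w, spec_w, hπρ])) ≫ zU ≫ h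
      bot := (yon S).map (smap ρC rfl) ≫ c
      comm := by
        rw [Category.assoc, hzU, Category.assoc, ha]
        refine ((congrArg ((yon S).map _ ≫ ·) (map_smap_smap ρB rfl γ _ rfl c)).trans
          (map_smap_smap (γ.comp ρB) rfl π _ (by rw [spec_w, hπρ]) c)).trans ?_
        exact (map_smap_congr hπρ.symm c).trans
          (map_smap_smap ρC rfl (algebraMap C κz) rfl (spec_w _ _ r).symm c).symm }
  obtain ⟨e, l, hl₁, hl₂⟩ := (hv sq ⟨_, Category.assoc _ _ _⟩).2
  -- the localisation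
  let VC : ValuationSubring e.K' := imageVS e.A' e.K'
  have hcomm : ∀ x : C, algebraMap e.A' e.K' (e.φ x) = e.ψ (x : κz) := fun x => RingHom.congr_fun e.comm x
  let T : κz → Prop := fun t => t ∈ C ∧ t ≠ 0 ∧ t⁻¹ ∈ B₁
  have hT1 : T 1 := ⟨C.one_mem, one_ne_zero, by rw [inv_one]; exact B₁.one_mem⟩
  have hTmul : ∀ {s t}, T s → T t → T (s * t) := fun hs ht =>
    ⟨C.mul_mem _ _ hs.1 ht.1, mul_ne_zero hs.2.1 ht.2.1, by rw [mul_inv]; exact B₁.mul_mem _ _ hs.2.2 ht.2.2⟩
  have hTV : ∀ {t}, T t → e.ψ t ∈ VC := fun ht => mem_imageVS.2 ⟨_, hcomm ⟨_, ht.1⟩⟩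
  let Bsub : Subring e.K' :=
    { carrier := {y | ∃ t, T t ∧ y * e.ψ t ∈ VC}
      one_mem' := ⟨1, hT1, by rw [map_one, one_mul]; exact VC.one_mem⟩
      zero_mem' := ⟨1, hT1, by rw [zero_mul]; exact VC.zero_mem⟩
      mul_mem' := fun {y y'} ⟨t, ht, h⟩ ⟨t', ht', h'⟩ => ⟨t * t', hTmul ht ht', by
        rw [map_mul, mul_mul_mul_comm]; exact VC.mul_mem _ _ h h'⟩
      add_mem' := fun {y y'} ⟨t, ht, h⟩ ⟨t', ht', h'⟩ => ⟨t * t', hTmul ht ht', by
        rw [map_mul, add_mul, ← mul_assoc, show y' * (e.ψ t * e.ψ t') = (y' * e.ψ t') * e.ψ t by ring]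
        exact VC.add_mem _ _ (VC.mul_mem _ _ h (hTV ht')) (VC.mul_mem _ _ h' (hTV ht))⟩
      neg_mem' := fun {y} ⟨t, ht, h⟩ => ⟨t, ht, by rw [neg_mul]; exact VC.neg_mem _ h⟩ }
  have hVCB : ∀ y ∈ VC, y ∈ Bsub := fun y hy => ⟨1, hT1, by rwa [map_one, mul_one]⟩
  let B' : ValuationSubring e.K' := ValuationSubring.ofLE VC Bsub hVCB
  let ψB : B₁ →+* B' := (e.ψ.comp B₁.subtype).codRestrict B'.toSubring fun x => by
    rcases C.mem_or_inv_mem (x : κz) with h | h
    · exact hVCB _ (mem_imageVS.2 ⟨_, hcomm ⟨_, h⟩⟩)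
    · rcases eq_or_ne (x : κz) 0 with hx | hx
      · exact hVCB _ (by show e.ψ (x : κz) ∈ VC; rw [hx, map_zero]; exact VC.zero_mem)
      · refine ⟨(x : κz)⁻¹, ⟨h, inv_ne_zero hx, by rw [inv_inv]; exact x.2⟩, ?_⟩
        show e.ψ (x : κz) * _ ∈ VC
        rw [← map_mul, mul_inv_cancel₀ hx, map_one]
        exact VC.one_mem
  haveI hψBloc : IsLocalHom ψB := ⟨fun x hu => by
    by_contra hx
    obtain ⟨v, hv⟩ := hu.exists_right_inv
    have hv' : e.ψ (x : κz) * (v : e.K') = 1 := congrArg Subtype.val hv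
    obtain ⟨t, ht, htv⟩ := v.2
    have hx0 : (x : κz) ≠ 0 := fun h => one_ne_zero (α := e.K') (by rw [← hv', h, map_zero, zero_mul])
    have hxi : (x : κz)⁻¹ ∉ B₁ := fun hi =>
      hx (IsUnit.of_mul_eq_one (⟨_, hi⟩ : B₁) (Subtype.ext (mul_inv_cancel₀ hx0)))
    have hz : t * (x : κz)⁻¹ ∉ B₁ := fun hi => hxi (by
      have := B₁.mul_mem _ _ ht.2.2 hi
      rwa [← mul_assoc, inv_mul_cancel₀ ht.2.1, one_mul] at this)
    have hz0 : t * (x : κz)⁻¹ ≠ 0 := mul_ne_zero ht.2.1 (inv_ne_zero hx0)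
    have hziC : (t * (x : κz)⁻¹)⁻¹ ∈ C :=
      (C.mem_or_inv_mem _).resolve_left fun h => hz ((hCsub _).1 h).1
    have hpsi : e.ψ (t * (x : κz)⁻¹) ∈ VC := by
      rw [show e.ψ (t * (x : κz)⁻¹) = (v : e.K') * e.ψ t by
        rw [map_mul, map_inv₀, inv_eq_of_mul_eq_one_right hv', mul_comm]]
      exact htv
    obtain ⟨y, hy⟩ := mem_imageVS.1 hpsi
    haveI := e.isLocalHom
    have hu' : IsUnit (⟨_, hziC⟩ : C) := by
      refine isUnit_of_map_unit e.φ _ (IsUnit.of_mul_eq_one y (IsFractionRing.injective e.A' e.K' ?_))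
      rw [map_mul, hy, hcomm, ← map_mul, map_one]
      show e.ψ ((t * (x : κz)⁻¹)⁻¹ * (t * (x : κz)⁻¹)) = 1
      rw [inv_mul_cancel₀ hz0, map_one]
    obtain ⟨z', hz'⟩ := hu'.exists_right_inv
    have hz'' : (t * (x : κz)⁻¹)⁻¹ * (z' : κz) = 1 := congrArg Subtype.val hz'
    have hzC : t * (x : κz)⁻¹ ∈ C := by
      rw [← inv_inv (t * (x : κz)⁻¹), inv_eq_of_mul_eq_one_right hz'']
      exact z'.2
    exact hz ((hCsub _).1 hzC).1⟩
  let jC : e.A' →+* B' := (algebraMap e.A' e.K').codRestrict B'.toSubring fun y => hVCB _ (mem_imageVS.2 ⟨y, rfl⟩)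
  let xA' : Spec (CommRingCat.of e.A') ⟶ S := Spec.map (CommRingCat.ofHom (e.φ.comp ρC)) ≫ r
  let l' : (yon S).obj (Over.mk xA') ⟶ X := (yon S).map (smap (RingHom.id _) (by
    rw [show sq.str = Spec.map (CommRingCat.ofHom ρC) ≫ r from rfl, spec_w, spec_w])) ≫ l
  have hl₂' : l' ≫ f = (yon S).map (smap (e.φ.comp ρC) rfl) ≫ c := by
    show ((yon S).map _ ≫ l) ≫ f = _
    rw [Category.assoc, hl₂]
    show _ ≫ (yon S).map (smap e.φ rfl) ≫ (yon S).map (smap ρC rfl) ≫ c = _
    rw [← Category.assoc ((yon S).map (smap e.φ rfl)), ← Functor.map_comp, ← Category.assoc, ← Functor.map_comp]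
    congr 2
    refine Over.OverMorphism.ext ?_
    show Spec.map _ ≫ Spec.map _ ≫ Spec.map _ = Spec.map _
    rw [← Spec.map_comp, ← Spec.map_comp]
    rfl
  have hjC : (jC.comp e.φ).comp ρC = (ψB.comp εB).comp ρB := RingHom.ext fun x => Subtype.ext
    ((hcomm (ρC x)).trans (congrArg e.ψ (hεB (ρB x)).symm))
  let sq' : ValSq f :=
    { A := B'
      K := e.K'
      str := Spec.map (CommRingCat.ofHom ((ψB.comp εB).comp ρB)) ≫ r
      top := (yon S).map (smap (e.ψ.comp π) (by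
        rw [spec_w, spec_w]
        congr 3
        exact RingHom.ext fun x => (congrArg e.ψ (hεB (ρB x))).symm)) ≫ zU ≫ h
      bot := (yon S).map (smap ((ψB.comp εB).comp ρB) rfl) ≫ c
      comm := by
        rw [Category.assoc, hzU, Category.assoc, ha]
        have hh : (e.ψ.comp π).comp (γ.comp ρB) = (algebraMap B' e.K').comp ((ψB.comp εB).comp ρB) :=
          RingHom.ext fun x => (congrArg e.ψ (hεB (ρB x))).symm
        refine ((congrArg ((yon S).map _ ≫ ·) (map_smap_smap ρB rfl γ _ rfl c)).trans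
          (map_smap_smap (γ.comp ρB) rfl _ _ (by rw [spec_w, hh]) c)).trans ?_
        exact (map_smap_congr hh c).trans
          (map_smap_smap _ rfl (algebraMap B' e.K') rfl (spec_w _ _ r).symm c).symm }
  let l₁ : (yon S).obj sq'.ptA ⟶ X := (yon S).map (smap (x := xA') jC (by
    rw [show xA' = Spec.map (CommRingCat.ofHom (e.φ.comp ρC)) ≫ r from rfl, spec_w, ← RingHom.comp_assoc, hjC])) ≫ l'
  let l₂ : (yon S).obj sq'.ptA ⟶ X := (yon S).map (smap (ψB.comp εB) (spec_w _ _ r)) ≫ a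
  have h₁₁ : (yon S).map sq'.j ≫ l₁ = sq'.top := by
    have w : Spec.map (CommRingCat.ofHom (algebraMap e.A' e.K')) ≫ Spec.map (CommRingCat.ofHom e.φ) ≫ sq.str =
        Spec.map (CommRingCat.ofHom (algebraMap B' e.K')) ≫ sq'.str := by
      show _ ≫ _ ≫ Spec.map _ ≫ r = _ ≫ Spec.map _ ≫ r
      rw [spec_w, spec_w, spec_w, ← hjC]
      rfl
    let cw : sq'.ptK ⟶ e.ptK' := Over.homMk (𝟙 _) (by rw [Category.id_comp]; exact w)
    have e₁ := congrArg ((yon S).map cw ≫ ·) hl₁
    simp only [← Category.assoc, ← Functor.map_comp] at e₁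
    show (yon S).map sq'.j ≫ (yon S).map _ ≫ (yon S).map _ ≫ l = _
    rw [← Category.assoc ((yon S).map sq'.j), ← Functor.map_comp, ← Category.assoc, ← Functor.map_comp]
    refine Eq.trans ?_ (e₁.trans ?_)
    · congr 2
      refine Over.OverMorphism.ext ?_
      show (Spec.map _ ≫ Spec.map _) ≫ Spec.map _ = 𝟙 _ ≫ Spec.map _
      rw [Category.id_comp, ← Spec.map_comp, ← Spec.map_comp]
      rfl
    · show _ ≫ (yon S).map _ ≫ zU ≫ h = (yon S).map _ ≫ zU ≫ h
      rw [← Category.assoc, ← Functor.map_comp]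
      congr 2
      refine Over.OverMorphism.ext ?_
      show (𝟙 _ ≫ Spec.map _) ≫ Spec.map _ = Spec.map _
      rw [Category.id_comp, ← Spec.map_comp]
      rfl
  have h₁₂ : l₁ ≫ f = sq'.bot := by
    show ((yon S).map _ ≫ l') ≫ f = _
    rw [Category.assoc, hl₂']
    exact (map_smap_smap _ _ _ _ (by rw [← RingHom.comp_assoc, hjC]) c).trans
      (map_smap_congr (by rw [← RingHom.comp_assoc, hjC]) c)
  have h₂₁ : (yon S).map sq'.j ≫ l₂ = sq'.top := by
    show _ = (yon S).map _ ≫ zU ≫ h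
    rw [hzU]
    show (yon S).map sq'.j ≫ (yon S).map _ ≫ a = _
    rw [← Category.assoc, ← Category.assoc, ← Functor.map_comp, ← Functor.map_comp]
    congr 2
    refine Over.OverMorphism.ext ?_
    show Spec.map _ ≫ Spec.map _ = Spec.map _ ≫ Spec.map _
    rw [← Spec.map_comp, ← Spec.map_comp]
    congr 1
    ext b
    exact congrArg e.ψ (hεB b)
  have h₂₂ : l₂ ≫ f = sq'.bot := by
    show ((yon S).map _ ≫ a) ≫ f = _
    rw [Category.assoc, ha]
    exact map_smap_smap ρB rfl (ψB.comp εB) (spec_w _ _ r) rfl c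
  have hl₁₂ : l₁ = l₂ := (hv sq' ⟨_, Category.assoc _ _ _⟩).1 l₁ l₂ h₁₁ h₁₂ h₂₁ h₂₂
  -- the valuation ring of the residue field
  let jk : e.A' →+* ResidueField B' := (residue B').comp jC
  let C'' : ValuationSubring (ResidueField B') := ValuationSubring.ofSubring jk.range fun y => by
    obtain ⟨b, rfl⟩ := residue_surjective y
    rcases VC.mem_or_inv_mem (b : e.K') with hb | hb
    · obtain ⟨c', hc'⟩ := mem_imageVS.1 hb
      exact Or.inl ⟨c', congrArg (residue B') (Subtype.ext hc')⟩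
    · obtain ⟨c', hc'⟩ := mem_imageVS.1 hb
      rcases eq_or_ne (residue B' b) 0 with h0 | h0
      · exact Or.inl (by rw [h0]; exact jk.range.zero_mem)
      · refine Or.inr ⟨c', (inv_eq_of_mul_eq_one_right ?_).symm⟩
        show residue B' b * residue B' (jC c') = 1
        rw [← map_mul, ← map_one (residue B')]
        refine congrArg _ (Subtype.ext ?_)
        show (b : e.K') * algebraMap e.A' e.K' c' = 1
        rw [hc']
        exact mul_inv_cancel₀ fun h => h0 (by rw [show b = 0 from Subtype.ext h, map_zero])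
  let jC'' : e.A' →+* C'' := jk.rangeRestrict
  let mk' : κw →+* ResidueField B' := (ResidueField.map ψB).comp toK₁
  have hf₂ : ∀ x : Aw, ∃ c₀ : C, (qC c₀ : ResidueField B₁) = toK₁ x ∧ jk (e.φ c₀) = mk' x := fun x => by
    obtain ⟨b₁, hb₁⟩ := residue_surjective (toK₁ (x : κw))
    have hC : (b₁ : κz) ∈ C := (hCsub _).2 ⟨b₁.2, by
      show residue B₁ b₁ ∈ A''
      rw [hb₁]
      exact hA'' x⟩
    refine ⟨⟨b₁, hC⟩, hb₁, ?_⟩
    show residue B' (jC (e.φ ⟨b₁, hC⟩)) = ResidueField.map ψB (toK₁ (x : κw))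
    rw [← hb₁, ResidueField.map_residue]
    exact congrArg (residue B') (Subtype.ext (hcomm ⟨b₁, hC⟩))
  let f₂ : Aw →+* C'' := (mk'.comp Aw.subtype).codRestrict C''.toSubring fun x => by
    obtain ⟨c₀, -, hc₀⟩ := hf₂ x
    exact ⟨e.φ c₀, hc₀⟩
  haveI : IsLocalHom jC'' := IsLocalHom.of_surjective _ jk.rangeRestrict_surjective
  haveI : IsLocalHom f₂ := ⟨fun x hu => by
    obtain ⟨c₀, hc₁, hc₂⟩ := hf₂ x
    haveI := e.isLocalHom
    have hu' : IsUnit (jC'' (e.φ c₀)) := by
      rw [show jC'' (e.φ c₀) = f₂ x from Subtype.ext hc₂]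
      exact hu
    have hc : IsUnit c₀ := isUnit_of_map_unit e.φ _ (isUnit_of_map_unit jC'' _ hu')
    refine hA''loc.map_nonunit _ ?_
    rw [show (toK₁.comp Aw.subtype).codRestrict A''.toSubring hA'' x = qC c₀ from Subtype.ext hc₁.symm]
    exact hc.map qC⟩
  let f₁ : Aw →+* VA := (toK.comp Aw.subtype).codRestrict VA.toSubring fun x => x.2
  haveI : IsLocalHom f₁ := ⟨fun x hu => by
    obtain ⟨v, hv⟩ := hu.exists_right_inv
    have hv' : toK (x : κw) * (v : K) = 1 := congrArg Subtype.val hv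
    have hx0 : (x : κw) ≠ 0 := fun h => one_ne_zero (α := K) (by rw [← hv', h, map_zero, zero_mul])
    refine IsUnit.of_mul_eq_one (⟨(x : κw)⁻¹, ?_⟩ : Aw) (Subtype.ext (mul_inv_cancel₀ hx0))
    show toK (x : κw)⁻¹ ∈ VA
    rw [map_inv₀, inv_eq_of_mul_eq_one_right hv']
    exact v.2⟩
  have hf₁i : Function.Injective f₁ := fun x y h => Subtype.ext (toK.injective (congrArg Subtype.val h))
  have hf₂i : Function.Injective f₂ := fun x y h => Subtype.ext (mk'.injective (congrArg Subtype.val h))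
  obtain ⟨A₃, _, _, _, M, _, _, _, g₁, g₂, hg, hg₁loc, hg₁i, hg₂i⟩ := exists_amalgam f₁ hf₁i f₂ hf₂i
  let mK : K →+* M := IsFractionRing.lift hg₁i
  let mk : ResidueField B' →+* M := IsFractionRing.lift hg₂i
  let toVA : A →+* VA := (algebraMap A K).rangeRestrict
  haveI : IsLocalHom toVA := IsLocalHom.of_surjective _ (algebraMap A K).rangeRestrict_surjective
  have hmK : ∀ x : A, algebraMap A₃ M (g₁ (toVA x)) = mK (algebraMap A K x) := fun x =>
    (IsFractionRing.lift_algebraMap (K := K) hg₁i (toVA x)).symm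
  have hmk : ∀ x : e.A', algebraMap A₃ M (g₂ (jC'' x)) = mk (jk x) := fun x =>
    (IsFractionRing.lift_algebraMap (K := ResidueField B') hg₂i (jC'' x)).symm
  have hmw : mK.comp toK = mk.comp mk' := IsLocalization.ringHom_ext (nonZeroDivisors Aw) (RingHom.ext fun x => by
    exact (IsFractionRing.lift_algebraMap (K := K) hg₁i (f₁ x)).trans
      ((congrArg (algebraMap A₃ M) (RingHom.congr_fun hg x)).trans
        (IsFractionRing.lift_algebraMap (K := ResidueField B') hg₂i (f₂ x)).symm))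
  have hB : mK.comp χ = (mk.comp (residue B')).comp (ψB.comp εB) := RingHom.ext fun b => by
    show mK (χ b) = mk (residue B' (ψB (εB b)))
    rw [← htoK, ← ResidueField.map_residue ψB]
    exact (RingHom.congr_fun hmw (qw b)).trans (congrArg (fun t => mk (ResidueField.map ψB t)) (htoK₁ b))
  have hθρ : ((g₂.comp jC'').comp (e.φ.comp ρC)) = (g₁.comp toVA).comp ρA := RingHom.ext fun x => by
    apply IsFractionRing.injective A₃ M
    show algebraMap A₃ M (g₂ (jC'' (e.φ (ρC x)))) = algebraMap A₃ M (g₁ (toVA (ρA x)))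
    rw [hmk, hmK]
    refine Eq.trans ?_ ((RingHom.congr_fun hB (ρB x)).symm.trans (congrArg mK (RingHom.congr_fun hχ x)))
    exact congrArg (fun t => mk (residue B' t)) (RingHom.congr_fun hjC x)
  refine ⟨A₃, inferInstance, inferInstance, inferInstance, M, inferInstance, inferInstance, inferInstance,
    g₁.comp toVA, mK, RingHom.ext hmK,
    (yon S).map (smap (x := xA') (g₂.comp jC'') (by
      rw [show xA' = Spec.map (CommRingCat.ofHom (e.φ.comp ρC)) ≫ r from rfl, spec_w, hθρ])) ≫ l',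
    RingHom.isLocalHom_comp _ _, ?_, ?_⟩
  · rw [Category.assoc, hl₂']
    exact (map_smap_smap _ rfl _ _ (by rw [hθρ]) c).trans (map_smap_congr hθρ c)
  · have hM : (algebraMap A₃ M).comp (g₂.comp jC'') = (mk.comp (residue B')).comp jC := RingHom.ext hmk
    let s : Over.mk (Spec.map (CommRingCat.ofHom ((mK.comp χ).comp ρB)) ≫ r) ⟶ sq'.ptA :=
      smap (mk.comp (residue B')) ((spec_w _ _ r).trans (by rw [hB]))
    calc _ = (yon S).map s ≫ l₁ := by
          simp only [l₁, ← Category.assoc, ← Functor.map_comp]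
          congr 2
          refine Over.OverMorphism.ext ?_
          show Spec.map _ ≫ Spec.map _ = Spec.map _ ≫ Spec.map _
          rw [← Spec.map_comp, ← Spec.map_comp, ← CommRingCat.ofHom_comp, hM]
          rfl
      _ = (yon S).map s ≫ l₂ := by rw [hl₁₂]
      _ = _ := by
          simp only [l₂, ← Category.assoc, ← Functor.map_comp]
          congr 2
          refine Over.OverMorphism.ext ?_
          show Spec.map _ ≫ Spec.map _ = Spec.map _
          rw [← Spec.map_comp, ← CommRingCat.ofHom_comp, ← hB]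

end Groth.Agent.AlgSpRefinedVal
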